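import Mathlib

/-!
Arithmetic for groups with fewer than `p ^ 2` Sylow `p`-subgroups: none of the possible Sylow
numbers of a simple group with a Sylow subgroup of order `p` is a prime power.
-/

set_option autoImplicit false

namespace Cfsg.Agent.H26.SylowFew

/-- Brauer's representation gives `1 + kp = (uv + 1)((u + 1)(v + 1) + 1)`. -/
theorem exists_factor {p k h u : ℕ} (hk : k < p) (hh : 0 < h) (hu : 0 < u)
    (hrep : k * (u + 1) = h * u * p + u ^ 2 + u + h) :
    ∃ v, 0 < v ∧ 1 + k * p = (u * v + 1) * ((u + 1) * (v + 1) + 1) := by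
  have h1 : h = 1 := by
    by_contra hne
    have h2 : 2 ≤ h := by omega
    have h3 : (k + 1) * (u + 1) ≤ p * (u + 1) := Nat.mul_le_mul_right _ hk
    have h4 : 2 * (u * p) ≤ h * (u * p) := Nat.mul_le_mul_right _ h2
    have h5 : p ≤ u * p := Nat.le_mul_of_pos_left p hu
    nlinarith
  subst h1
  obtain ⟨v, hv⟩ : ∃ v, p + u = k + v ∧ 0 < v := ⟨p + u - k, by omega, by omega⟩
  obtain ⟨hv, hv0⟩ := hv
  refine ⟨v, hv0, ?_⟩
  have hp : (p : ℤ) = (u + 1) * v + 1 := by
    have e1 : (k : ℤ) * (u + 1) = u * p + u ^ 2 + u + 1 := by exact_mod_cast (by linarith [hrep])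
    have e2 : (p : ℤ) + u = k + v := by exact_mod_cast hv
    linear_combination e1 + (u + 1 : ℤ) * e2
  have hkv : (k : ℤ) = p + u - v := by
    have e2 : (p : ℤ) + u = k + v := by exact_mod_cast hv
    linarith
  have : (1 + k * p : ℤ) = (u * v + 1) * ((u + 1) * (v + 1) + 1) := by
    rw [hkv, hp]; ring
  exact_mod_cast this

/-- The product is never a prime power. -/
theorem not_primePow {u v q a : ℕ} (hu : 0 < u) (hv : 0 < v) (hq : q.Prime)
    (h : q ^ a = (u * v + 1) * ((u + 1) * (v + 1) + 1)) : False := by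
  obtain ⟨i, -, hi⟩ := (Nat.dvd_prime_pow hq).mp (Dvd.intro _ h.symm)
  obtain ⟨j, -, hj⟩ := (Nat.dvd_prime_pow hq).mp (Dvd.intro_left _ h.symm)
  have hA2 : 2 ≤ u * v + 1 := by have := Nat.mul_pos hu hv; omega
  have hij : i < j := by
    have : q ^ i < q ^ j := by rw [← hi, ← hj]; nlinarith
    exact (Nat.pow_lt_pow_iff_right hq.one_lt).mp this
  have hBA : u * v + 1 ∣ (u + 1) * (v + 1) + 1 := by
    rw [hi, hj]; exact pow_dvd_pow q hij.le
  have hBA2 : (u * v + 1) * q ∣ (u + 1) * (v + 1) + 1 := by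
    rw [hi, hj, ← pow_succ]; exact pow_dvd_pow q hij
  have hd : u * v + 1 ∣ u + v + 1 := by
    rw [show (u + 1) * (v + 1) + 1 = (u * v + 1) + (u + v + 1) by ring] at hBA
    exact (Nat.dvd_add_right dvd_rfl).mp hBA
  have hle : u * v + 1 ≤ u + v + 1 := Nat.le_of_dvd (by omega) hd
  have key : u = 1 ∨ v = 1 ∨ (u = 2 ∧ v = 2) := by
    rcases (show u = 1 ∨ v = 1 ∨ (2 ≤ u ∧ 2 ≤ v) by omega) with h1 | h1 | ⟨h1, h2⟩
    · exact Or.inl h1
    · exact Or.inr (Or.inl h1)
    · right; right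
      constructor <;> nlinarith
  rcases key with rfl | rfl | ⟨rfl, rfl⟩
  · have : (1 * v + 1) ∣ 1 := by
      refine (Nat.dvd_add_right (dvd_mul_left (1 * v + 1) 2)).mp ?_
      rw [show 2 * (1 * v + 1) + 1 = (1 + 1) * (v + 1) + 1 by ring]; exact hBA
    have := Nat.dvd_one.mp this; omega
  · have : (u * 1 + 1) ∣ 1 := by
      refine (Nat.dvd_add_right (dvd_mul_left (u * 1 + 1) 2)).mp ?_
      rw [show 2 * (u * 1 + 1) + 1 = (u + 1) * (1 + 1) + 1 by ring]; exact hBA
    have := Nat.dvd_one.mp this; omega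
  · have hq5 : q = 5 := by
      have h5 : q ∣ 5 := by
        have : i ≠ 0 := by rintro rfl; simp at hi
        rw [show (5 : ℕ) = 2 * 2 + 1 by norm_num, hi]; exact dvd_pow_self q this
      exact (Nat.prime_dvd_prime_iff_eq hq (by norm_num)).mp h5
    subst hq5
    norm_num at hBA2

/-- A prime power dividing a product of two numbers with no common prime other than `2`. -/
theorem dvd_or_dvd {q a x y : ℕ} (hq : q.Prime) (hxy : ∀ r : ℕ, r.Prime → r ∣ x → r ∣ y → r = 2)
    (hq2 : q ≠ 2) (h : q ^ a ∣ x * y) : q ^ a ∣ x ∨ q ^ a ∣ y := by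
  by_cases hx : q ∣ x
  · left
    exact (Nat.Coprime.pow_left a
      (hq.coprime_iff_not_dvd.mpr fun hy => hq2 (hxy q hq hx hy))).dvd_of_dvd_mul_right h
  · right
    exact (Nat.Coprime.pow_left a (hq.coprime_iff_not_dvd.mpr hx)).dvd_of_dvd_mul_left h

/-- `PSL₂(p)` has no prime power Sylow number. -/
theorem psl_arith {p n m q a : ℕ} (hp : p.Prime) (hp3 : 3 < p) (hex : ¬ ∃ k : ℕ, p + 1 = 2 ^ k)
    (hm : 2 * m = (p - 1) * (p + 1)) (hn : n ∣ m) (hq : q.Prime) (hqa : n = q ^ a)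
    (hnp : p + 1 ≤ n) : False := by
  obtain ⟨t, ht⟩ := hp.odd_of_ne_two (by omega)
  subst hqa
  by_cases hq2 : q = 2
  · subst hq2
    have h2 : 2 ^ (a + 1) ∣ (p - 1) * (p + 1) := by
      rw [← hm, pow_succ']; exact Nat.mul_dvd_mul_left 2 hn
    rcases Nat.even_or_odd t with ⟨s, hs⟩ | ⟨s, hs⟩
    · have e : (p - 1) * (p + 1) = 2 * ((p - 1) * (2 * s + 1)) := by
        rw [show p + 1 = 2 * (2 * s + 1) by omega]; ring
      rw [e, pow_succ', Nat.mul_dvd_mul_iff_left two_pos] at h2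
      have h3 := (Nat.Coprime.pow_left a (Nat.coprime_two_left.mpr ⟨s, rfl⟩)).dvd_of_dvd_mul_right h2
      have := Nat.le_of_dvd (by omega) h3
      omega
    · have e : (p - 1) * (p + 1) = 2 * ((2 * s + 1) * (p + 1)) := by
        rw [show p - 1 = 2 * (2 * s + 1) by omega]; ring
      rw [e, pow_succ', Nat.mul_dvd_mul_iff_left two_pos] at h2
      have h3 := (Nat.Coprime.pow_left a (Nat.coprime_two_left.mpr ⟨s, rfl⟩)).dvd_of_dvd_mul_left h2
      have := Nat.le_of_dvd (by omega) h3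
      exact hex ⟨a, by omega⟩
  · have h2 : q ^ a ∣ (p - 1) * (p + 1) := hm ▸ hn.mul_left 2
    have hodd : Odd (q ^ a) := (hq.odd_of_ne_two hq2).pow
    rcases dvd_or_dvd hq (fun r hr h1 h3 => by
      have : r ∣ 2 := by
        have := Nat.dvd_sub h3 h1
        rwa [show p + 1 - (p - 1) = 2 by omega] at this
      exact (Nat.prime_dvd_prime_iff_eq hr Nat.prime_two).mp this) hq2 h2 with h3 | h3
    · have := Nat.le_of_dvd (by omega) h3; omega
    · have := Nat.le_of_dvd (by omega) h3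
      obtain ⟨s, hs⟩ := hodd
      omega

/-- `SL₂(p - 1)` has no prime power Sylow number. -/
theorem sl_arith {p n q a : ℕ} (hp3 : 3 < p) (hn : n ∣ (p - 1) * (p - 2)) (hq : q.Prime)
    (hqa : n = q ^ a) (hnp : p + 1 ≤ n) : False := by
  subst hqa
  have hco : (p - 1).Coprime (p - 2) := by
    rw [show p - 1 = (p - 2) + 1 by omega]; simp
  by_cases hx : q ∣ p - 1
  · have hy : ¬ q ∣ p - 2 := fun hy => hq.ne_one (Nat.dvd_one.mp (hco ▸ Nat.dvd_gcd hx hy))
    have := Nat.le_of_dvd (by omega)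
      ((Nat.Coprime.pow_left a (hq.coprime_iff_not_dvd.mpr hy)).dvd_of_dvd_mul_right hn)
    omega
  · have := Nat.le_of_dvd (by omega)
      ((Nat.Coprime.pow_left a (hq.coprime_iff_not_dvd.mpr hx)).dvd_of_dvd_mul_left hn)
    omega

end Cfsg.Agent.H26.SylowFew
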