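import Cfsg.Agent.H26.SylowFew.Arith
import Cfsg.Agent.H78.SylowCount
import Cfsg.Agent.Cores.PSolvable
import Cfsg.Agent.Coprime.Action
import Cfsg.Agent.Linear.Order
import Cfsg.Agent.S4700

/-!
Groups with fewer than `p ^ 2` Sylow `p`-subgroups: the Sylow number is a prime power exactly when
the group is `p`-solvable, unless `p + 1` is a power of `2`.
-/

set_option autoImplicit false

namespace Cfsg.Agent.H26.SylowFew

open Subgroup
open scoped Pointwise

universe u

variable {G : Type u} [Group G] [Finite G] {p : ℕ} [hp : Fact p.Prime]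

theorem succ_le_of_modEq {n : ℕ} (h : n ≡ 1 [MOD p]) (h0 : n ≠ 0) (h1 : n ≠ 1) : p + 1 ≤ n := by
  have := (Nat.modEq_iff_dvd' (by omega : 1 ≤ n)).1 h.symm
  have := Nat.le_of_dvd (by omega) this
  omega

theorem succ_le_card_sylow (h : Nat.card (Sylow p G) ≠ 1) : p + 1 ≤ Nat.card (Sylow p G) :=
  succ_le_of_modEq (card_sylow_modEq_one p G) (Nat.card_pos).ne' h

/-- The orbit of a Sylow subgroup `Q` under another one `P` has `|P : Q ⊓ P|` members. -/
theorem card_orbit_eq (P Q : Sylow p G) :
    Nat.card (MulAction.orbit (P : Subgroup G) Q) = ((Q : Subgroup G) ⊓ P).relIndex P := by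
  rw [Nat.card_congr (MulAction.orbitEquivQuotientStabilizer _ Q)]
  show _ = Nat.card ((P : Subgroup G) ⧸ ((Q : Subgroup G) ⊓ P).subgroupOf P)
  congr 3
  ext x
  rw [MulAction.mem_stabilizer_iff, mem_subgroupOf]
  show ((x : G) • Q = Q) ↔ _
  rw [Sylow.smul_eq_iff_mem_normalizer, mem_inf]
  refine ⟨fun h => ⟨?_, x.2⟩, fun h => le_normalizer h.1⟩
  have hz : IsPGroup p (zpowers (x : G)) := P.isPGroup'.to_le (zpowers_le.mpr x.2)
  exact ((hz.inf_normalizer_sylow Q).le ⟨mem_zpowers _, h⟩).2

/-- A subgroup of a Sylow subgroup cut out by another one has index `p`. -/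
theorem relIndex_eq_prime (hn : Nat.card (Sylow p G) < p ^ 2) {P Q : Sylow p G} (hne : P ≠ Q) :
    ((Q : Subgroup G) ⊓ P).relIndex P = p := by
  obtain ⟨n, hn'⟩ := P.isPGroup'.card_orbit Q
  have hlt : Nat.card (MulAction.orbit (P : Subgroup G) Q) < p ^ 2 :=
    lt_of_le_of_lt (Nat.card_le_card_of_injective _ Subtype.coe_injective) hn
  rw [hn', Nat.pow_lt_pow_iff_right hp.out.one_lt] at hlt
  rw [← card_orbit_eq, hn']
  rcases n with _ | _ | n
  · exfalso
    rw [pow_zero, card_orbit_eq, relIndex_eq_one] at hn'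
    have hle : (P : Subgroup G) ≤ Q := hn'.trans inf_le_left
    exact hne (Sylow.ext (P.is_maximal' Q.isPGroup' hle).symm)
  · simp
  · omega

/-- The subgroup `Q ⊓ P` is contained in every conjugate of `Q` under `P`. -/
theorem inf_le_smul (hn : Nat.card (Sylow p G) < p ^ 2) {P Q : Sylow p G} (hne : P ≠ Q)
    (a : (P : Subgroup G)) : (Q : Subgroup G) ⊓ P ≤ ((a • Q : Sylow p G) : Subgroup G) := by
  have hi := relIndex_eq_prime hn hne
  have hnorm : (((Q : Subgroup G) ⊓ P).subgroupOf P).Normal :=
    Subgroup.normal_of_index_eq_minFac_card (by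
      obtain ⟨k, hk⟩ := IsPGroup.iff_card.1 P.isPGroup'
      have hk0 : k ≠ 0 := by
        rintro rfl
        have := relIndex_dvd_card ((Q : Subgroup G) ⊓ P) (P : Subgroup G)
        rw [hi, hk, pow_zero, Nat.dvd_one] at this
        exact hp.out.ne_one this
      rw [hk, Nat.pow_minFac hk0, hp.out.minFac_eq]
      exact hi)
  intro x hx
  show x ∈ ((MulAut.conj (a : G)) • (Q : Subgroup G))
  rw [Subgroup.mem_pointwise_smul_iff_inv_smul_mem]
  have := hnorm.conj_mem ⟨x, hx.2⟩ hx a⁻¹
  rw [mem_subgroupOf] at this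
  simpa [MulAut.smul_def, MulAut.conj_inv_apply, mul_assoc] using
    (show ((a⁻¹ : (P : Subgroup G)) : G) * x * ((a⁻¹ : (P : Subgroup G)) : G)⁻¹ ∈ (Q : Subgroup G)
      from this.1)

/-- All Sylow subgroups contain the intersection of two of them. -/
theorem inf_le_sylow (hn : Nat.card (Sylow p G) < p ^ 2) {P Q : Sylow p G} (hne : P ≠ Q)
    (R : Sylow p G) : (Q : Subgroup G) ⊓ P ≤ R := by
  classical
  by_contra hR
  set D : Subgroup G := (Q : Subgroup G) ⊓ P with hD
  have hcard : ∀ X Y : Sylow p G, Nat.card (X : Subgroup G) = Nat.card (Y : Subgroup G) :=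
    fun X Y => by rw [X.card_eq_multiplicity, Y.card_eq_multiplicity]
  have hcD : ∀ X Y : Sylow p G, X ≠ Y →
      Nat.card ((Y : Subgroup G) ⊓ X : Subgroup G) * p = Nat.card (P : Subgroup G) := by
    intro X Y hXY
    have h := relIndex_eq_prime hn hXY
    have e : Nat.card ((Y : Subgroup G) ⊓ X : Subgroup G) *
        ((Y : Subgroup G) ⊓ X).relIndex X = Nat.card (X : Subgroup G) := by
      rw [← relIndex_bot_left, ← relIndex_bot_left,
        relIndex_mul_relIndex _ _ _ bot_le inf_le_right]
    rw [h] at e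
    exact e.trans (hcard X P)
  have hDp : Nat.card D * p = Nat.card (P : Subgroup G) := hcD P Q hne
  set L : Set (Sylow p G) := {X | D ≤ (X : Subgroup G)} with hL
  have horb : ∀ X : Sylow p G, X ≠ R →
      Nat.card (MulAction.orbit (R : Subgroup G) X) = p := fun X hX =>
    (card_orbit_eq R X).trans (relIndex_eq_prime hn (Ne.symm hX))
  have hXR : ∀ X ∈ L, X ≠ R := fun X hX h => hR (h ▸ hX)
  -- the orbits of `R` on the members of `L` are disjoint
  have hinj : ∀ X ∈ L, ∀ Y ∈ L, ∀ a : (R : Subgroup G), a • X = Y → X = Y := by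
    intro X hX Y hY a ha
    by_contra hXY
    have h1 : (X : Subgroup G) ⊓ R ≤ (Y : Subgroup G) ⊓ X := by
      refine le_inf ?_ inf_le_left
      rw [← ha]
      exact inf_le_smul hn (Ne.symm (hXR X hX)) a
    have h2 : D ≤ (Y : Subgroup G) ⊓ X := le_inf hY hX
    have e1 : D = (Y : Subgroup G) ⊓ X := Subgroup.eq_of_le_of_card_ge h2 (by
      have := hcD X Y hXY
      exact Nat.le_of_mul_le_mul_right (by omega) hp.out.pos)
    have e2 : (X : Subgroup G) ⊓ R = (Y : Subgroup G) ⊓ X := Subgroup.eq_of_le_of_card_ge h1 (by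
      have := hcD X Y hXY
      have := hcD R X (Ne.symm (hXR X hX))
      exact Nat.le_of_mul_le_mul_right (by omega) hp.out.pos)
    exact hR ((e1.trans e2.symm).le.trans inf_le_right)
  -- `L` has more than `p` members
  have hLcard : p + 1 ≤ Nat.card L := by
    have hPL : P ∈ L := show D ≤ (P : Subgroup G) from inf_le_right
    have hsub : insert P (MulAction.orbit (P : Subgroup G) Q) ⊆ L := by
      rintro X (rfl | ⟨a, rfl⟩)
      · exact hPL
      · exact inf_le_smul hn hne a
    have hPo : P ∉ MulAction.orbit (P : Subgroup G) Q := by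
      rintro ⟨a, ha⟩
      have h : a⁻¹ • P = Q := inv_smul_eq_iff.mpr ha.symm
      have h2 : ((a⁻¹ : (P : Subgroup G)) : G) • P = P :=
        Sylow.smul_eq_iff_mem_normalizer.mpr (le_normalizer (a⁻¹).2)
      exact hne (h.symm.trans h2).symm
    have ho : Nat.card (MulAction.orbit (P : Subgroup G) Q) = p :=
      (card_orbit_eq P Q).trans (relIndex_eq_prime hn hne)
    calc p + 1 = (insert P (MulAction.orbit (P : Subgroup G) Q)).ncard := by
          rw [Set.ncard_insert_of_notMem hPo, ← Nat.card_coe_set_eq, ho]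
      _ ≤ L.ncard := Set.ncard_le_ncard hsub
      _ = Nat.card L := (Nat.card_coe_set_eq L).symm
  -- the orbits fill up too much
  let f : (Σ X : L, MulAction.orbit (R : Subgroup G) (X : Sylow p G)) → Sylow p G :=
    fun z => (z.2 : Sylow p G)
  have hf : Function.Injective f := by
    rintro ⟨⟨X, hX⟩, ⟨Z, a, rfl⟩⟩ ⟨⟨Y, hY⟩, ⟨W, b, rfl⟩⟩ (h : a • X = b • Y)
    obtain rfl : X = Y := hinj X hX Y hY (b⁻¹ * a) (by rw [mul_smul, h, inv_smul_smul])
    congr 1
    exact Subtype.ext h
  have hle := Nat.card_le_card_of_injective f hf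
  have hS : Nat.card (Σ X : L, MulAction.orbit (R : Subgroup G) (X : Sylow p G)) =
      Nat.card L * p := by
    have : Fintype L := Fintype.ofFinite L
    rw [Nat.card_sigma, Finset.sum_congr rfl (fun (X : L) _ => horb X (hXR X X.2)), Finset.sum_const,
      Finset.card_univ, smul_eq_mul, ← Nat.card_eq_fintype_card]
  rw [hS] at hle
  nlinarith

/-- A simple group with fewer than `p ^ 2` Sylow subgroups, more than one, has one of order `p`. -/
theorem card_sylow_eq_prime [IsSimpleGroup G] (hn : Nat.card (Sylow p G) < p ^ 2)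
    (h1 : Nat.card (Sylow p G) ≠ 1) (P : Sylow p G) : Nat.card (P : Subgroup G) = p := by
  haveI : Nontrivial (Sylow p G) :=
    Finite.one_lt_card_iff_nontrivial.mp (by have := Nat.card_pos (α := Sylow p G); omega)
  obtain ⟨Q, hQ⟩ := exists_ne P
  have hD : (Q : Subgroup G) ⊓ P = ⊥ := by
    have hle : (Q : Subgroup G) ⊓ P ≤ ⨅ R : Sylow p G, (R : Subgroup G) :=
      le_iInf (inf_le_sylow hn hQ.symm)
    have hN : (⨅ R : Sylow p G, (R : Subgroup G)).Normal := by
      refine ⟨fun x hx g => ?_⟩
      rw [mem_iInf] at hx ⊢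
      intro R
      have := hx (g⁻¹ • R)
      rw [Sylow.coe_subgroup_smul, mem_pointwise_smul_iff_inv_smul_mem] at this
      simpa [MulAut.smul_def] using this
    rcases hN.eq_bot_or_eq_top with h | h
    · exact le_bot_iff.mp (h ▸ hle)
    · exfalso
      have hPt : (P : Subgroup G) = ⊤ := top_le_iff.mp (h ▸ iInf_le _ P)
      have hQt : (Q : Subgroup G) = ⊤ := top_le_iff.mp (h ▸ iInf_le _ Q)
      exact hQ (Sylow.ext (hQt.trans hPt.symm))
  have := relIndex_eq_prime hn hQ.symm
  rwa [hD, relIndex_bot_left] at this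

/-- A nonabelian simple group has no prime power Sylow number below `p ^ 2`. -/
theorem simple_case [IsSimpleGroup G] (hna : ¬ IsMulCommutative G)
    (hex : ¬ (3 < p ∧ ∃ k : ℕ, p + 1 = 2 ^ k)) (hn : Nat.card (Sylow p G) < p ^ 2)
    (h1 : Nat.card (Sylow p G) ≠ 1)
    (hpp : ∃ q k : ℕ, q.Prime ∧ Nat.card (Sylow p G) = q ^ k) : False := by
  classical
  obtain ⟨q, a, hq, hqa⟩ := hpp
  obtain ⟨P⟩ : Nonempty (Sylow p G) := inferInstance
  have hP := card_sylow_eq_prime hn h1 P
  have hperf : commutator G = ⊤ := by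
    rcases Subgroup.Normal.eq_bot_or_eq_top (inferInstance : (_root_.commutator G).Normal)
      with h | h
    · exfalso
      rw [_root_.commutator_def, commutator_eq_bot_iff_le_centralizer] at h
      exact hna ⟨⟨fun a b => (mem_centralizer_iff.mp (h (mem_top a)) b (mem_top b)).symm⟩⟩
    · exact h
  have hcore : Cfsg.pPrimeCore p G = ⊥ := by
    rcases Subgroup.Normal.eq_bot_or_eq_top
      (inferInstance : (Cfsg.pPrimeCore p G).Normal) with h | h
    · exact h
    · exfalso
      have hc := Cores.coprime_card_pPrimeCore (p := p) (G := G)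
      rw [h, card_top] at hc
      exact hp.out.ne_one (Nat.dvd_one.mp (hc ▸ Nat.dvd_gcd
        (hP ▸ Subgroup.card_subgroup_dvd_card (P : Subgroup G)) dvd_rfl))
  have hge := succ_le_card_sylow h1
  obtain ⟨k, hk⟩ : ∃ k, Nat.card (Sylow p G) = 1 + k * p := by
    obtain ⟨k, hk⟩ := (Nat.modEq_iff_dvd' Nat.card_pos).1 (card_sylow_modEq_one p G).symm
    exact ⟨k, by rw [mul_comm]; omega⟩
  have e : G ⧸ Cfsg.pPrimeCore p G ≃* G :=
    (QuotientGroup.quotientMulEquivOfEq hcore).trans QuotientGroup.quotientBot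
  have hdvd : Nat.card (Sylow p G) ∣ (P : Subgroup G).index := P.card_dvd_index
  have hcardG : Nat.card G = p * (P : Subgroup G).index := by
    rw [← (card_mul_index (P : Subgroup G)), hP]
  have hp0 := hp.out.pos
  rcases Cfsg.Agent.S4700.result hperf p P hP k hk with
    ⟨F, _, _, hF, h3, ⟨e'⟩⟩ | ⟨m, F, _, _, hF, hpm, h3, ⟨e'⟩⟩ | ⟨h, u, hh, hu, hrep⟩
  · have hG : Nat.card G = Nat.card (Matrix.ProjectiveSpecialLinearGroup (Fin 2) F) :=
      Nat.card_congr (e.symm.trans e').toEquiv
    have hc := Linear.card_PSL_two_mul (F := F)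
    have hg : Nat.gcd 2 (p - 1) = 2 := Nat.gcd_eq_left (by
      obtain ⟨t, ht⟩ := hp.out.odd_of_ne_two (by omega); exact ⟨t, by omega⟩)
    rw [← hG, hF, hg, hcardG] at hc
    have hsq : p ^ 2 - 1 = (p - 1) * (p + 1) := by
      rw [mul_comm, ← Nat.sq_sub_sq, one_pow]
    refine psl_arith hp.out h3 (fun hk2 => hex ⟨h3, hk2⟩) ?_ hdvd hq hqa hge
    rw [hsq] at hc
    exact Nat.eq_of_mul_eq_mul_left hp0 (by rw [← hc]; ring)
  · have hG : Nat.card G = Nat.card (Matrix.SpecialLinearGroup (Fin 2) F) :=
      Nat.card_congr (e.symm.trans e').toEquiv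
    have hc := Linear.card_SL_two (F := F)
    rw [← hG, hF, hcardG, show 2 ^ m = p - 1 by omega] at hc
    have hsq : (p - 1) ^ 2 - 1 = (p - 2) * p := by
      obtain ⟨t, rfl⟩ : ∃ t, p = t + 2 := ⟨p - 2, by omega⟩
      rw [show t + 2 - 1 = t + 1 by omega, show t + 2 - 2 = t by omega]
      exact Nat.sub_eq_of_eq_add (by ring)
    refine sl_arith h3 (n := Nat.card (Sylow p G)) ?_ hq hqa hge
    rw [hsq] at hc
    rwa [Nat.eq_of_mul_eq_mul_left hp0
      (show p * (P : Subgroup G).index = p * ((p - 1) * (p - 2)) by rw [hc]; ring)] at hdvd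
  · obtain ⟨v, hv, hN⟩ := exists_factor (p := p) (by
      by_contra hle
      have : p * p ≤ k * p := Nat.mul_le_mul_right p (by omega)
      rw [hk, sq] at hn; omega) hh hu hrep
    exact not_primePow hu hv hq (by rw [← hN, ← hk, hqa])

theorem card_sylow_quotient_dvd (K : Subgroup G) [K.Normal] :
    Nat.card (Sylow p (G ⧸ K)) ∣ Nat.card (Sylow p G) := by
  obtain ⟨P⟩ : Nonempty (Sylow p G) := inferInstance
  rw [H78.card_sylow_product K P _ rfl, mul_assoc]
  exact dvd_mul_right _ _

theorem card_sylow_normal_dvd (K : Subgroup G) [K.Normal] :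
    Nat.card (Sylow p K) ∣ Nat.card (Sylow p G) := by
  obtain ⟨P⟩ : Nonempty (Sylow p G) := inferInstance
  rw [H78.card_sylow_product K P _ rfl]
  exact Dvd.dvd.mul_right (dvd_mul_left _ _) _

/-- A prime power Sylow number below `p ^ 2` forces `p`-solvability. -/
theorem isPSolvable_of_primePow (hex : ¬ (3 < p ∧ ∃ k : ℕ, p + 1 = 2 ^ k))
    (hn : Nat.card (Sylow p G) < p ^ 2)
    (hpp : ∃ q k : ℕ, q.Prime ∧ Nat.card (Sylow p G) = q ^ k) : Cfsg.IsPSolvable p G := by
  induction hsize : Nat.card G using Nat.strong_induction_on generalizing G with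
  | _ N ih =>
    by_cases hsimp : ∀ K : Subgroup G, K.Normal → K = ⊥ ∨ K = ⊤
    · rcases subsingleton_or_nontrivial G with h | h
      · exact Cores.isPSolvable_of_coprime (by simp [Nat.card_of_subsingleton (1 : G)])
      haveI : IsSimpleGroup G := ⟨hsimp⟩
      by_cases hna : IsMulCommutative G
      · haveI : Group.IsSolvable G := Coprime.isSolvable_of_isMulCommutative
        exact Cores.isPSolvable_of_isSolvable
      by_cases h1 : Nat.card (Sylow p G) = 1
      · obtain ⟨P⟩ : Nonempty (Sylow p G) := inferInstance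
        haveI : Subsingleton (Sylow p G) := (Nat.card_eq_one_iff_unique.1 h1).1
        rcases (P.normal_of_subsingleton).eq_bot_or_eq_top with hb | hb
        · refine Cores.isPSolvable_of_coprime ?_
          have := P.not_dvd_index
          rw [hb, index_bot] at this
          exact (hp.out.coprime_iff_not_dvd.mpr this).symm
        · exact Cores.isPSolvable_of_isPGroup
            ((hb ▸ P.isPGroup').of_equiv Subgroup.topEquiv)
      exact (simple_case hna hex hn h1 hpp).elim
    · push Not at hsimp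
      obtain ⟨K, hK, hKb, hKt⟩ := hsimp
      obtain ⟨q, k, hq, hqk⟩ := hpp
      have key : ∀ n, n ∣ Nat.card (Sylow p G) → ∃ q k : ℕ, q.Prime ∧ n = q ^ k := by
        intro n hd
        obtain ⟨i, -, hi⟩ := (Nat.dvd_prime_pow hq).mp (hqk ▸ hd)
        exact ⟨q, i, hq, hi⟩
      have hle : ∀ n, n ∣ Nat.card (Sylow p G) → n < p ^ 2 := fun n hd =>
        lt_of_le_of_lt (Nat.le_of_dvd Nat.card_pos hd) hn
      refine Cores.isPSolvable_of_normal_of_quotient K ?_ ?_
      · refine ih (Nat.card K) ?_ (hle _ (card_sylow_normal_dvd K))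
          (key _ (card_sylow_normal_dvd K)) rfl
        rw [← hsize]
        exact lt_of_le_of_ne (card_le_card_group K) (fun h => hKt (card_eq_iff_eq_top K |>.mp h))
      · refine ih (Nat.card (G ⧸ K)) ?_ (hle _ (card_sylow_quotient_dvd K))
          (key _ (card_sylow_quotient_dvd K)) rfl
        rw [← hsize, K.card_eq_card_quotient_mul_card_subgroup]
        exact lt_mul_of_one_lt_right Nat.card_pos (K.one_lt_card_iff_ne_bot.mpr hKb)

/-- The primary parts of the index of the centralizer of `P` in a normal `p'`-subgroup. -/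
theorem primary_part_modEq (K : Subgroup G) [K.Normal] (hK : (Nat.card K).Coprime p)
    (P : Sylow p G) (q : ℕ) [Fact q.Prime] :
    ∃ c, (normalizer ((P : Subgroup G) : Set G)).relIndex K ≠ 0 ∧ c ≡ 1 [MOD p] ∧
      c = q ^ ((normalizer ((P : Subgroup G) : Set G)).relIndex K).factorization q := by
  set NP : Subgroup G := normalizer ((P : Subgroup G) : Set G) with hNP
  set C : Subgroup G := NP ⊓ K with hC
  have hPK : (P : Subgroup G) ⊓ K = ⊥ := by
    obtain ⟨k, hk⟩ := IsPGroup.iff_card.1 P.isPGroup'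
    exact Coprime.inf_eq_bot (hk ▸ (hK.symm.pow_left k))
  have hCcomm : C ≤ centralizer ((P : Subgroup G) : Set G) := by
    intro c hc
    rw [mem_centralizer_iff]
    intro x hx
    have h1 : x * c * x⁻¹ * c⁻¹ ∈ (P : Subgroup G) ⊓ K := by
      refine ⟨?_, ?_⟩
      · have hcx : c * x⁻¹ * c⁻¹ ∈ (P : Subgroup G) :=
          (mem_normalizer_iff.mp hc.1 x⁻¹).mp
            ((P : Subgroup G).inv_mem (show x ∈ (P : Subgroup G) from hx))
        have := (P : Subgroup G).mul_mem (show x ∈ (P : Subgroup G) from hx) hcx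
        rwa [show x * (c * x⁻¹ * c⁻¹) = x * c * x⁻¹ * c⁻¹ by group] at this
      · exact K.mul_mem ((inferInstance : K.Normal).conj_mem c hc.2 x) (K.inv_mem hc.2)
    rw [hPK, mem_bot, mul_inv_eq_one, mul_inv_eq_iff_eq_mul] at h1
    exact h1
  obtain ⟨R₀⟩ : Nonempty (Sylow q C) := inferInstance
  set R : Subgroup G := (R₀ : Subgroup C).map C.subtype with hR
  have hRC : R ≤ C := map_subtype_le _
  have hPR : (P : Subgroup G) ≤ normalizer (R : Set G) :=
    le_trans (fun x hx => mem_centralizer_iff.mpr fun r hr =>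
      ((mem_centralizer_iff.mp (hCcomm (hRC hr))) x hx).symm) (centralizer_le_normalizer _)
  obtain ⟨Q₀, hRQ, hQP⟩ := Coprime.exists_invariant_sylow_ge (A := (P : Subgroup G)) (K := K)
    (le_normalizer_of_normal) (by
      obtain ⟨k, hk⟩ := IsPGroup.iff_card.1 P.isPGroup'
      exact hk ▸ hK.symm.pow_left k)
    (Or.inl (by
      haveI := P.isPGroup'.isNilpotent
      infer_instance)) q (hRC.trans inf_le_right) (R₀.isPGroup'.map _) hPR
  set Q : Subgroup G := (Q₀ : Subgroup K).map K.subtype with hQ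
  have hQK : Q ≤ K := map_subtype_le _
  have hQC : NP ⊓ Q = R := by
    refine le_antisymm ?_ (le_inf (hRC.trans inf_le_left) hRQ)
    have hle : R ≤ NP ⊓ Q := le_inf (hRC.trans inf_le_left) hRQ
    have hle2 : NP ⊓ Q ≤ C := le_inf inf_le_left (inf_le_right.trans hQK)
    have h1 : ((NP ⊓ Q).subgroupOf C) = (R₀ : Subgroup C) :=
      R₀.is_maximal' (((Q₀.isPGroup'.map K.subtype).to_le inf_le_right).comap_subtype)
        (fun x hx => hle ⟨x, hx, rfl⟩)
    intro x hx
    exact ⟨⟨x, hle2 hx⟩, h1.le (by exact hx), rfl⟩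
  -- the Sylow number of `PQ`
  set X : Subgroup G := (P : Subgroup G) ⊔ Q with hX
  have hmod : NP.relIndex Q ≡ 1 [MOD p] := by
    have h := H78.card_sylow_eq_relIndex_of_le X P le_sup_left
    rw [← hNP] at h
    have e : NP.relIndex Q = (NP ⊓ X).relIndex X := by
      rw [H78.relIndex_eq_of_factor inf_le_right (le_sup_right : Q ≤ X) (fun b hb => by
        rw [← SetLike.mem_coe, coe_mul_of_left_le_normalizer_right _ _ hQP] at hb
        obtain ⟨x, hx, y, hy, rfl⟩ := hb
        exact ⟨x * y * x⁻¹, (mem_normalizer_iff.mp (hQP hx) y).mp hy, x,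
          ⟨le_normalizer hx, (le_sup_left : _ ≤ X) hx⟩, by group⟩)]
      rw [← inf_relIndex_right (NP ⊓ X) Q, inf_assoc, inf_of_le_right (le_sup_right : Q ≤ X),
        inf_relIndex_right]
    rw [e, inf_relIndex_right, ← h]
    exact card_sylow_modEq_one p X
  refine ⟨NP.relIndex Q, index_ne_zero_of_finite, hmod, ?_⟩
  have hq := (Fact.out : q.Prime)
  have hRcard : Nat.card R = q ^ (Nat.card C).factorization q := by
    rw [hR, card_map_of_injective C.subtype_injective, R₀.card_eq_multiplicity]
  have hQcard : Nat.card Q = q ^ (Nat.card K).factorization q := by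
    rw [hQ, card_map_of_injective K.subtype_injective, Q₀.card_eq_multiplicity]
  have hCK : Nat.card C * NP.relIndex K = Nat.card K := by
    rw [← inf_relIndex_right, ← relIndex_bot_left, ← relIndex_bot_left,
      relIndex_mul_relIndex _ _ _ bot_le inf_le_right]
  have hRQ' : Nat.card R * NP.relIndex Q = Nat.card Q := by
    rw [← hQC, ← inf_relIndex_right NP Q, ← relIndex_bot_left, ← relIndex_bot_left,
      relIndex_mul_relIndex _ _ _ bot_le inf_le_right]
  rw [hQcard, hRcard, ← hCK, Nat.factorization_mul Nat.card_pos.ne' (show NP.relIndex K ≠ 0 from index_ne_zero_of_finite),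
    Finsupp.add_apply, pow_add] at hRQ'
  exact Nat.eq_of_mul_eq_mul_left (pow_pos hq.pos _) hRQ'

/-- A `p`-solvable group with fewer than `p ^ 2` Sylow subgroups has a prime power of them. -/
theorem primePow_of_isPSolvable (hs : Cfsg.IsPSolvable p G)
    (hn : Nat.card (Sylow p G) < p ^ 2) :
    ∃ q k : ℕ, q.Prime ∧ Nat.card (Sylow p G) = q ^ k := by
  induction hsize : Nat.card G using Nat.strong_induction_on generalizing G with
  | _ N ih =>
    by_cases h1 : Nat.card (Sylow p G) = 1
    · exact ⟨2, 0, Nat.prime_two, by rw [h1, pow_zero]⟩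
    rcases subsingleton_or_nontrivial G with h | h
    · exact absurd (Nat.card_eq_one_iff_unique.2 ⟨⟨fun a b => Sylow.ext (Subsingleton.elim _ _)⟩,
        inferInstance⟩) h1
    have hsmall : ∀ K : Subgroup G, K ≠ ⊥ → ∀ [K.Normal], Nat.card (G ⧸ K) < N := by
      intro K hK _
      rw [← hsize, K.card_eq_card_quotient_mul_card_subgroup]
      exact lt_mul_of_one_lt_right Nat.card_pos (K.one_lt_card_iff_ne_bot.mpr hK)
    rcases Cores.pCore_ne_bot_or_pPrimeCore_ne_bot hs with hc | hc
    · have := H78.card_sylow_quotient_of_isPGroup (p := p) (Cfsg.pCore p G) Cores.pCore_isPGroup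
      rw [← this]
      exact ih _ (hsmall _ hc) (Cores.isPSolvable_quotient hs _) (this ▸ hn) rfl
    set K := Cfsg.pPrimeCore p G with hKdef
    have hK : (Nat.card K).Coprime p := Cores.coprime_card_pPrimeCore
    obtain ⟨P⟩ : Nonempty (Sylow p G) := inferInstance
    have hprod := H78.card_sylow_product K P _ rfl
    set a := Nat.card (Sylow p (G ⧸ K))
    set c := Nat.card (Sylow p (((P : Subgroup G) ⊔ K) ⊓
      normalizer (((P : Subgroup G) ⊓ K : Subgroup G) : Set G) : Subgroup G))
    have hK1 : Nat.card (Sylow p K) = 1 := by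
      refine Nat.card_eq_one_iff_unique.2 ⟨⟨fun A B => Sylow.ext ?_⟩, inferInstance⟩
      have : ∀ A : Sylow p K, (A : Subgroup K) = ⊥ := fun A => by
        obtain ⟨k, hk⟩ := IsPGroup.iff_card.1 A.isPGroup'
        refine card_eq_one.1 (Nat.eq_one_of_dvd_coprimes (hK.pow_right k)
          (card_subgroup_dvd_card _) (hk ▸ dvd_rfl))
      rw [this, this]
    rw [hK1, mul_one] at hprod
    by_cases ha : a = 1
    · -- the Sylow number is an index in `K`
      have hnum : Nat.card (Sylow p G) = (normalizer ((P : Subgroup G) : Set G)).relIndex K := by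
        have hM : normalizer (((P : Subgroup G) ⊔ K : Subgroup G) : Set G) = ⊤ := by
          rw [← index_eq_one, ← H78.card_sylow_quotient K P]; exact ha
        haveI : ((P : Subgroup G) ⊔ K).Normal := normalizer_eq_top_iff.mp hM
        rw [hprod, ha, one_mul]
        have hN : ((P : Subgroup G) ⊔ K) ⊓
            normalizer (((P : Subgroup G) ⊓ K : Subgroup G) : Set G) =
            (P : Subgroup G) ⊔ K := by
          refine inf_eq_left.2 ?_
          have : (P : Subgroup G) ⊓ K = ⊥ := by
            obtain ⟨k, hk⟩ := IsPGroup.iff_card.1 P.isPGroup'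
            exact Coprime.inf_eq_bot (hk ▸ (hK.symm.pow_left k))
          rw [this, normalizer_eq_top_iff.mpr inferInstance]
          exact le_top
        show Nat.card (Sylow p _) = _
        rw [hN, H78.card_sylow_eq_relIndex_of_le _ P le_sup_left,
          ← inf_relIndex_right, H78.relIndex_eq_of_factor inf_le_right
            (le_sup_right : K ≤ (P : Subgroup G) ⊔ K) (fun b hb => by
            rw [sup_comm] at hb
            obtain ⟨y, hy, x, hx, rfl⟩ := mem_sup_of_normal_left.mp hb
            exact ⟨y, hy, x, ⟨le_normalizer hx, (le_sup_left : (P : Subgroup G) ≤ _) hx⟩, rfl⟩),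
          ← inf_relIndex_right, inf_assoc, inf_of_le_right (le_sup_right : K ≤ _),
          inf_relIndex_right]
      set n := Nat.card (Sylow p G) with hndef
      have hn0 : n ≠ 0 := Nat.card_pos.ne'
      obtain ⟨q, hq, hqn⟩ := Nat.exists_prime_and_dvd h1
      refine ⟨q, n.factorization q, hq, ?_⟩
      by_contra hne
      obtain ⟨m, hm⟩ := Nat.ordProj_dvd n q
      have hm1 : m ≠ 1 := fun h => hne (by rw [h, mul_one] at hm; exact hm)
      obtain ⟨r, hr, hrm⟩ := Nat.exists_prime_and_dvd hm1
      have hrq : r ≠ q := by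
        rintro rfl
        refine Nat.not_dvd_ordCompl hr hn0 ?_
        rwa [show n / r ^ n.factorization r = m from
          Nat.div_eq_of_eq_mul_right (pow_pos hr.pos _) hm]
      haveI := Fact.mk hq
      haveI := Fact.mk hr
      obtain ⟨c1, -, hc1, e1⟩ := primary_part_modEq K hK P q
      obtain ⟨c2, -, hc2, e2⟩ := primary_part_modEq K hK P r
      rw [← hnum] at e1 e2
      have hrn : r ∣ n := hm ▸ hrm.mul_left _
      have b1 : p + 1 ≤ c1 := succ_le_of_modEq hc1
        (e1 ▸ (pow_ne_zero _ hq.ne_zero)) (fun h => by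
          rw [e1, Nat.pow_eq_one] at h
          rcases h with h | h
          · exact hq.ne_one h
          · exact absurd h (Nat.Prime.factorization_pos_of_dvd hq hn0 hqn).ne')
      have b2 : p + 1 ≤ c2 := succ_le_of_modEq hc2
        (e2 ▸ (pow_ne_zero _ hr.ne_zero)) (fun h => by
          rw [e2, Nat.pow_eq_one] at h
          rcases h with h | h
          · exact hr.ne_one h
          · exact absurd h (Nat.Prime.factorization_pos_of_dvd hr hn0 hrn).ne')
      have hd : c1 * c2 ∣ n := by
        rw [e1, e2]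
        exact Nat.Coprime.mul_dvd_of_dvd_of_dvd (Nat.coprime_pow_primes _ _ hq hr hrq.symm)
          (Nat.ordProj_dvd _ _) (Nat.ordProj_dvd _ _)
      have := Nat.le_of_dvd (Nat.pos_of_ne_zero hn0) hd
      nlinarith
    · have ha' : p + 1 ≤ a := succ_le_card_sylow ha
      have hc1 : c = 1 := by
        by_contra hc1
        have : p + 1 ≤ c := succ_le_card_sylow hc1
        nlinarith
      rw [hc1, mul_one] at hprod
      rw [hprod] at hn ⊢
      exact ih _ (hsmall _ hc) (Cores.isPSolvable_quotient hs _) hn rfl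

end Cfsg.Agent.H26.SylowFew
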